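import Groth.Agent.DynLib.Basic
import Groth.Agent.Comod.Coeff

/-!
# The stabilizer of a vector is a closed subgroup
-/

set_option autoImplicit false
universe u w

open TensorProduct

namespace Groth.Agent.VecStab

open Groth.Agent.Comod

variable (k : Type u) [Field k] (A : Type u) [CommRing A] [HopfAlgebra k A]
variable {V : Type w} [AddCommGroup V] [Module k V] [HopfRep.Comod k A V]

/-- the translate of a vector by a point -/
noncomputable def tr {R : Type u} [CommRing R] [Algebra k R] (g : WithConv (A →ₐ[k] R)) : V →ₗ[k] V ⊗[k] R :=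
  g.ofConv.toLinearMap.lTensor V ∘ₗ HopfRep.Comod.coact (k := k) (A := A)

theorem tr_apply {R : Type u} [CommRing R] [Algebra k R] (g : WithConv (A →ₐ[k] R)) (v : V) :
    tr k A g v = g.ofConv.toLinearMap.lTensor V (HopfRep.Comod.coact (k := k) (A := A) v) := rfl

theorem tr_one {R : Type u} [CommRing R] [Algebra k R] (v : V) :
    tr k A (1 : WithConv (A →ₐ[k] R)) v = v ⊗ₜ[k] 1 := by
  have h := LinearMap.congr_fun (HopfRep.Comod.counit_comp (k := k) (A := A) (V := V)) v
  simp only [LinearMap.comp_apply, LinearMap.flip_apply, TensorProduct.mk_apply] at h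
  have e : (1 : WithConv (A →ₐ[k] R)).ofConv.toLinearMap =
      Algebra.linearMap k R ∘ₗ Coalgebra.counit (R := k) (A := A) :=
    LinearMap.ext fun a => by simp [AlgHom.convOne_apply]
  rw [tr_apply, e, LinearMap.lTensor_comp, LinearMap.comp_apply, h]
  simp

theorem tr_mul {R : Type u} [CommRing R] [Algebra k R] (g h : WithConv (A →ₐ[k] R)) (v : V) :
    tr k A (g * h) v = ((LinearMap.mul' k R).lTensor V)
      (TensorProduct.assoc k V R R ((tr k A g).rTensor R (tr k A h v))) := by
  have hco := LinearMap.congr_fun (HopfRep.Comod.coassoc (k := k) (A := A) (V := V)) v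
  simp only [LinearMap.comp_apply, LinearEquiv.coe_coe] at hco
  let F : V ⊗[k] (A ⊗[k] A) →ₗ[k] V ⊗[k] R :=
    (LinearMap.mul' k R ∘ₗ TensorProduct.map g.ofConv.toLinearMap h.ofConv.toLinearMap).lTensor V
  have e1 : ∀ y : V ⊗[k] A, (g * h).ofConv.toLinearMap.lTensor V y = F ((Coalgebra.comul (R := k)).lTensor V y) := by
    intro y
    induction y with
    | zero => simp
    | add y z hy hz => simp only [map_add, hy, hz]
    | tmul p q =>
      simp only [F, LinearMap.lTensor_tmul, LinearMap.comp_apply, AlgHom.toLinearMap_apply]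
      rw [AlgHom.convMul_apply]
      generalize Coalgebra.comul (R := k) q = z
      induction z with
      | zero => simp
      | add y z hy hz => simp only [map_add, tmul_add, hy, hz]
      | tmul s t => simp
  have e2 : ∀ y : V ⊗[k] A,
      F (TensorProduct.assoc k V A A ((HopfRep.Comod.coact (k := k) (A := A)).rTensor A y)) =
        ((LinearMap.mul' k R).lTensor V)
          (TensorProduct.assoc k V R R ((tr k A g).rTensor R (h.ofConv.toLinearMap.lTensor V y))) := by
    intro y
    induction y with
    | zero => simp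
    | add y z hy hz => simp only [map_add, hy, hz]
    | tmul p q =>
      simp only [tr, LinearMap.rTensor_tmul, LinearMap.lTensor_tmul, LinearMap.comp_apply]
      generalize HopfRep.Comod.coact (k := k) (A := A) p = z
      induction z with
      | zero => simp
      | add y z hy hz => simp only [map_add, add_tmul, hy, hz]
      | tmul s t => simp [F]
  rw [tr_apply, e1, ← hco, e2]
  rfl

/-- ideal of the stabilizer of `v` -/
noncomputable def stab (v : V) : Ideal A :=
  Ideal.span (Set.range fun ψ : V →ₗ[k] k =>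
    slL ψ (HopfRep.Comod.coact (k := k) (A := A) v) - algebraMap k A (ψ v))

theorem stab_le_ker_iff (v : V) {R : Type u} [CommRing R] [Algebra k R] (g : A →ₐ[k] R) :
    (∀ a ∈ stab k A v, g a = 0) ↔ tr k A (WithConv.toConv g) v = v ⊗ₜ[k] 1 := by
  have key : ∀ ψ : V →ₗ[k] k, g (slL ψ (HopfRep.Comod.coact (k := k) (A := A) v) - algebraMap k A (ψ v)) =
      slL ψ (tr k A (WithConv.toConv g) v) - slL ψ (v ⊗ₜ[k] (1 : R)) := by
    intro ψ
    rw [map_sub, AlgHom.commutes, tr_apply, slL_lTensor, slL_tmul, Algebra.algebraMap_eq_smul_one]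
    rfl
  constructor
  · intro h
    refine ext_slL fun ψ => ?_
    rw [← sub_eq_zero, ← key]
    exact h _ (Ideal.subset_span ⟨ψ, rfl⟩)
  · intro h a ha
    have hle : stab k A v ≤ RingHom.ker g := Ideal.span_le.2 (by
      rintro _ ⟨ψ, rfl⟩
      show g _ = 0
      rw [key, h, sub_self])
    exact hle ha

theorem isHopfIdeal_stab (v : V) : (stab k A v).IsHopfIdeal k := by
  have hmul : ∀ (R : Type u) [CommRing R] [Algebra k R] (g h : WithConv (A →ₐ[k] R)),
      tr k A h v = v ⊗ₜ[k] 1 → tr k A (g * h) v = tr k A g v := by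
    intro R _ _ g h hh
    rw [tr_mul, hh, LinearMap.rTensor_tmul]
    generalize tr k A g v = y
    induction y with
    | zero => simp
    | add y z hy hz => simp only [map_add, add_tmul, hy, hz]
    | tmul p q => simp
  refine DynLib.isHopfIdeal_of_represents (fun R _ _ g => tr k A g v = v ⊗ₜ[k] 1)
    (fun R _ _ g => stab_le_ker_iff k A v g) (fun R _ _ => tr_one k A v)
    (fun R _ _ g h hg hh => (hmul R g h hh).trans hg) fun R _ _ g hg => ?_
  show tr k A g⁻¹ v = v ⊗ₜ[k] 1
  rw [← hmul R g⁻¹ g hg, inv_mul_cancel, tr_one]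

end Groth.Agent.VecStab
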